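import Cfsg.Agent.Lib.Helper24.BrauerPair
import Cfsg.Agent.Lib.Helper25.Irr

set_option autoImplicit false
set_option linter.style.haveILetI false
open Cfsg
open scoped ComplexConjugate

namespace Cfsg.Agent.Lib.Helper24

open Cfsg.Agent.Lib.Helper7

universe u v
variable {K : Type u} {K' : Type v} [Group K] [Group K'] {M : Ideal AlgInt} {p : ℕ}

/-- pull back an irreducible character along an isomorphism -/
noncomputable def mapIrr (σ : K ≃* K') (χ : IrrCharacter K') : IrrCharacter K :=
  ⟨fun k => (χ : K' → ℂ) (σ k),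
    Cfsg.Agent.Lib.Helper25.isIrrCharacter_comp_surjective σ.toMonoidHom σ.surjective χ.2⟩

theorem mapIrr_apply (σ : K ≃* K') (χ : IrrCharacter K') (k : K) :
    (mapIrr σ χ : K → ℂ) k = (χ : K' → ℂ) (σ k) := rfl

theorem mapIrr_symm_mapIrr (σ : K ≃* K') (χ : IrrCharacter K') :
    mapIrr σ.symm (mapIrr σ χ) = χ := by
  apply Subtype.ext
  funext k
  simp [mapIrr_apply]

theorem mapIrr_mapIrr_symm (σ : K ≃* K') (χ : IrrCharacter K) :
    mapIrr σ (mapIrr σ.symm χ) = χ := by
  apply Subtype.ext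
  funext k
  simp [mapIrr_apply]

/-- the bijection of irreducible characters given by an isomorphism -/
noncomputable def mapIrrEquiv (σ : K ≃* K') : IrrCharacter K' ≃ IrrCharacter K where
  toFun := mapIrr σ
  invFun := mapIrr σ.symm
  left_inv := mapIrr_symm_mapIrr σ
  right_inv := mapIrr_mapIrr_symm σ

theorem centralizer_singleton_map (σ : K ≃* K') (k : K) :
    Subgroup.centralizer ({σ k} : Set K')
      = (Subgroup.centralizer ({k} : Set K)).map (σ : K →* K') := by
  ext x
  simp only [Subgroup.mem_centralizer_singleton_iff, Subgroup.mem_map, MonoidHom.coe_coe]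
  constructor
  · intro h
    refine ⟨σ.symm x, ?_, by simp⟩
    apply σ.injective
    simpa using h
  · rintro ⟨y, hy, rfl⟩
    rw [← map_mul, ← map_mul, hy]

theorem centralChar_comp (σ : K ≃* K') (χ : K' → ℂ) (k : K) :
    centralChar (fun x => χ (σ x)) k = centralChar χ (σ k) := by
  rw [centralChar, centralChar, centralizer_singleton_map, Subgroup.index_map_equiv, map_one]

theorem sameBlock_comp_iff (σ : K ≃* K') (χ ψ : K' → ℂ) :
    SameBlock M (fun x => χ (σ x)) (fun x => ψ (σ x)) ↔ SameBlock M χ ψ := by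
  constructor
  · intro h k'
    have := h (σ.symm k')
    rwa [centralChar_comp, centralChar_comp, MulEquiv.apply_symm_apply] at this
  · intro h k
    rw [centralChar_comp, centralChar_comp]
    exact h _

theorem preimage_blockOf (σ : K ≃* K') (χ : K' → ℂ) :
    mapIrr σ ⁻¹' (blockOf M (fun x => χ (σ x))) = blockOf M χ := by
  ext ψ
  exact sameBlock_comp_iff σ χ ψ

theorem preimage_principalBlock (σ : K ≃* K') :
    mapIrr σ ⁻¹' (principalBlock M K) = principalBlock M K' :=
  preimage_blockOf σ (fun _ => (1 : ℂ))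

theorem mapIrr_mem_principalBlock_iff (σ : K ≃* K') (χ : IrrCharacter K') :
    mapIrr σ χ ∈ principalBlock M K ↔ χ ∈ principalBlock M K' := by
  rw [← preimage_principalBlock σ]
  rfl

theorem isPBlock_preimage (σ : K ≃* K') {f : Set (IrrCharacter K)} (hf : IsPBlock M f) :
    IsPBlock M (mapIrr σ ⁻¹' f) := by
  obtain ⟨χ, rfl⟩ := hf
  refine ⟨mapIrr σ.symm χ, ?_⟩
  rw [← preimage_blockOf σ]
  congr 2
  funext x
  simp [mapIrr_apply]

theorem blockCoeff_preimage [Finite K] (σ : K ≃* K') (f : Set (IrrCharacter K)) (k : K) :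
    blockCoeff (mapIrr σ ⁻¹' f) (σ k) = blockCoeff f k := by
  rw [blockCoeff, blockCoeff, Nat.card_congr σ.toEquiv]
  congr 1
  have himg : mapIrr σ.symm '' f = mapIrr σ ⁻¹' f := by
    ext χ
    constructor
    · rintro ⟨θ, hθ, rfl⟩
      show mapIrr σ (mapIrr σ.symm θ) ∈ f
      rwa [mapIrr_mapIrr_symm]
    · intro h
      exact ⟨mapIrr σ χ, h, mapIrr_symm_mapIrr σ χ⟩
  have hinj : Set.InjOn (mapIrr σ.symm) f := (mapIrrEquiv σ).symm.injective.injOn
  rw [← himg, finsum_mem_image hinj]
  apply finsum_mem_congr rfl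
  intro θ _
  simp [mapIrr_apply]

theorem Om_comp [Fintype K] [Fintype K'] (σ : K ≃* K') (c : K' → ℂ) (χ : IrrCharacter K') :
    Om (fun k => c (σ k)) (mapIrr σ χ) = Om c χ := by
  rw [Om, Om]
  congr 1
  · exact Fintype.sum_equiv σ.toEquiv _ _ (fun _ => rfl)
  · rw [mapIrr_apply, map_one]

end Cfsg.Agent.Lib.Helper24
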