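import Cfsg.Agent.Lib.Helper24.SelfCent

set_option autoImplicit false
set_option linter.style.haveILetI false
set_option linter.unusedSectionVars false
open Cfsg

namespace Cfsg.Agent.Lib.Helper24

universe u

/-- Burnside: if `N(Q) ≤ C(Q)` for a Sylow `p`-subgroup, `O_{p'}` has `p`-power index. -/
theorem index_pPrimeCore_of_normalizer_le {H : Type u} [Group H] [Finite H] {p : ℕ}
    [Fact p.Prime] (Q : Sylow p H)
    (hQ : Subgroup.normalizer ((Q : Subgroup H) : Set H)
      ≤ Subgroup.centralizer ((Q : Subgroup H) : Set H)) :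
    ∃ k : ℕ, (pPrimeCore p H).index = p ^ k := by
  have hp : p.Prime := Fact.out
  have hK := MonoidHom.ker_transferSylow_isComplement' Q hQ
  have h1 : ¬ p ∣ Nat.card (MonoidHom.transferSylow Q hQ).ker :=
    MonoidHom.not_dvd_card_ker_transferSylow Q hQ
  have h2 : (MonoidHom.transferSylow Q hQ).ker ≤ pPrimeCore p H :=
    SC.le_pPrimeCore inferInstance ((Nat.Prime.coprime_iff_not_dvd hp).2 h1).symm
  have h3 : (pPrimeCore p H).index ∣ (MonoidHom.transferSylow Q hQ).ker.index :=
    Subgroup.index_dvd_of_le h2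
  rw [hK.symm.index_eq_card, Q.card_eq_multiplicity] at h3
  obtain ⟨k, -, hk⟩ := (Nat.dvd_prime_pow hp).1 h3
  exact ⟨k, hk⟩

theorem mem_sylow_of_mem_normalizer {H : Type u} [Group H] {p : ℕ} [Fact p.Prime]
    (Q : Sylow p H) {x : H} (hx : ∃ k : ℕ, orderOf x = p ^ k)
    (hxN : x ∈ Subgroup.normalizer ((Q : Subgroup H) : Set H)) : x ∈ (Q : Subgroup H) := by
  have hP : IsPGroup p (Subgroup.zpowers x) := by
    obtain ⟨k, hk⟩ := hx
    apply IsPGroup.of_card (n := k)
    rw [Nat.card_zpowers, hk]
  have h1 := hP.inf_normalizer_sylow Q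
  have h2 : x ∈ Subgroup.zpowers x ⊓ Subgroup.normalizer ((Q : Subgroup H) : Set H) :=
    ⟨Subgroup.mem_zpowers x, hxN⟩
  exact (h1.le h2).2

/-- A Sylow 2-subgroup of order 4 containing a central involution is central in its normalizer. -/
theorem normalizer_le_centralizer_of_card_four {H : Type u} [Group H] [Finite H] (Q : Sylow 2 H)
    (hQ4 : Nat.card Q = 4) {t : H} (htc : ∀ h : H, t * h = h * t) (ht2 : orderOf t = 2) :
    Subgroup.normalizer ((Q : Subgroup H) : Set H)
      ≤ Subgroup.centralizer ((Q : Subgroup H) : Set H) := by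
  classical
  haveI : Fact (Nat.Prime 2) := ⟨Nat.prime_two⟩
  have hcomm : ∀ a b : Q, a * b = b * a :=
    IsPGroup.commutative_of_card_eq_prime_sq (p := 2) (hQ4.trans (by norm_num))
  have ht1 : t ≠ 1 := by
    rintro rfl
    simp at ht2
  have htt : t * t = 1 := by
    rw [← pow_two, ← ht2, pow_orderOf_eq_one]
  have htQ : t ∈ (Q : Subgroup H) := by
    apply mem_sylow_of_mem_normalizer Q ⟨1, by rw [ht2, pow_one]⟩
    rw [Subgroup.mem_normalizer_iff]
    intro h
    rw [htc h, mul_inv_cancel_right]
  intro n hn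
  have hnQ : ∀ q ∈ (Q : Subgroup H), n * q * n⁻¹ ∈ (Q : Subgroup H) := fun q hq =>
    (Subgroup.mem_normalizer_iff.1 hn q).1 hq
  -- conjugation by `n` moves `q` to `q` or `t q`
  have hstep : ∀ q ∈ (Q : Subgroup H), n * q * n⁻¹ = q ∨ n * q * n⁻¹ = t * q := by
    intro q hq
    by_cases hq1 : q = 1
    · left; rw [hq1]; group
    by_cases hqt : q = t
    · left; rw [hqt, ← htc n, mul_inv_cancel_right]
    haveI := Fintype.ofFinite Q
    have huniv : ({(1 : Q), ⟨t, htQ⟩, ⟨q, hq⟩, ⟨t, htQ⟩ * ⟨q, hq⟩} : Finset Q) = Finset.univ := by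
      apply Finset.eq_univ_of_card
      rw [← Nat.card_eq_fintype_card, hQ4]
      have e1 : (⟨q, hq⟩ : Q) ∉ ({⟨t, htQ⟩ * ⟨q, hq⟩} : Finset Q) := by
        rw [Finset.mem_singleton]
        intro h
        have := congrArg Subtype.val h
        simp only [Subgroup.coe_mul] at this
        exact ht1 (by simpa using this.symm)
      have e2 : (⟨t, htQ⟩ : Q) ∉ ({⟨q, hq⟩, ⟨t, htQ⟩ * ⟨q, hq⟩} : Finset Q) := by
        simp only [Finset.mem_insert, Finset.mem_singleton, not_or]
        constructor
        · intro h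
          exact hqt (congrArg Subtype.val h).symm
        · intro h
          have := congrArg Subtype.val h
          simp only [Subgroup.coe_mul] at this
          exact hq1 (by simpa using this.symm)
      have e3 : (1 : Q) ∉ ({⟨t, htQ⟩, ⟨q, hq⟩, ⟨t, htQ⟩ * ⟨q, hq⟩} : Finset Q) := by
        simp only [Finset.mem_insert, Finset.mem_singleton, not_or]
        refine ⟨?_, ?_, ?_⟩
        · intro h
          exact ht1 (congrArg Subtype.val h).symm
        · intro h
          exact hq1 (congrArg Subtype.val h).symm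
        · intro h
          have := congrArg Subtype.val h
          simp only [Subgroup.coe_mul, Subgroup.coe_one] at this
          apply hqt
          have h2 : t * (t * q) = t * 1 := by rw [← this]
          rw [← mul_assoc, htt, one_mul, mul_one] at h2
          exact h2
      rw [Finset.card_insert_of_notMem e3, Finset.card_insert_of_notMem e2,
        Finset.card_insert_of_notMem e1, Finset.card_singleton]
    have hmem : (⟨n * q * n⁻¹, hnQ q hq⟩ : Q)
        ∈ ({(1 : Q), ⟨t, htQ⟩, ⟨q, hq⟩, ⟨t, htQ⟩ * ⟨q, hq⟩} : Finset Q) := by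
      rw [huniv]; exact Finset.mem_univ _
    simp only [Finset.mem_insert, Finset.mem_singleton] at hmem
    rcases hmem with h | h | h | h
    · exfalso
      have := congrArg Subtype.val h
      simp only [Subgroup.coe_one] at this
      apply hq1
      have h2 : n⁻¹ * (n * q * n⁻¹) * n = n⁻¹ * 1 * n := by rw [this]
      simpa [mul_assoc] using h2
    · exfalso
      have := congrArg Subtype.val h
      simp only at this
      apply hqt
      have h2 : n⁻¹ * (n * q * n⁻¹) * n = n⁻¹ * t * n := by rw [this]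
      rw [mul_assoc n⁻¹ t n, htc n] at h2
      simpa [mul_assoc] using h2
    · left; exact congrArg Subtype.val h
    · right; exact congrArg Subtype.val h
  -- `n ^ 2` centralizes `Q`
  have hsq : ∀ q ∈ (Q : Subgroup H), Commute (n ^ 2) q := by
    intro q hq
    have h1 : n * (n * q * n⁻¹) * n⁻¹ = q := by
      rcases hstep q hq with h | h
      · rw [h, h]
      · rw [h]
        have : n * (t * q) * n⁻¹ = t * (n * q * n⁻¹) := by
          rw [← mul_assoc, ← htc n]; group
        rw [this, h, ← mul_assoc, htt, one_mul]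
    show n ^ 2 * q = q * n ^ 2
    have h2 : n ^ 2 * q = (n * (n * q * n⁻¹) * n⁻¹) * n ^ 2 := by
      rw [pow_two]; group
    rw [h2, h1]
  -- the odd power
  obtain ⟨j, m, hm, hjm⟩ := Nat.exists_eq_two_pow_mul_odd (orderOf_pos n).ne'
  have hnm : n ^ m ∈ (Q : Subgroup H) := by
    apply mem_sylow_of_mem_normalizer Q _ (Subgroup.pow_mem _ hn m)
    refine ⟨j, ?_⟩
    rw [orderOf_pow, hjm, Nat.gcd_eq_right (Dvd.intro_left _ rfl),
      Nat.mul_div_cancel _ hm.pos]
  have hodd : ∀ q ∈ (Q : Subgroup H), Commute (n ^ m) q := by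
    intro q hq
    exact congrArg Subtype.val (hcomm ⟨n ^ m, hnm⟩ ⟨q, hq⟩)
  rw [Subgroup.mem_centralizer_iff]
  intro q hq
  obtain ⟨c, hc⟩ := hm
  have h1 : Commute (n ^ (2 * c)) q := by
    rw [pow_mul]; exact (hsq q hq).pow_left c
  have h2 : Commute (n ^ (2 * c + 1)) q := hc ▸ hodd q hq
  have h3 : n = (n ^ (2 * c))⁻¹ * n ^ (2 * c + 1) := by
    rw [pow_succ, inv_mul_cancel_left]
  have h4 : Commute n q := by
    rw [h3]
    exact (h1.inv_left).mul_left h2
  exact h4.eq.symm

/-- The centralizer of an involution in a group with Sylow 2-subgroups of order 4. -/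
theorem klein_centralizer {G : Type u} [Group G] [Finite G] (P : Sylow 2 G)
    (hP4 : Nat.card P = 4) {t : G} (htP : t ∈ (P : Subgroup G)) (ht2 : orderOf t = 2) :
    (∃ k : ℕ, (pPrimeCore 2 (Subgroup.centralizer ({t} : Set G))).index = 2 ^ k) ∧
      (Nat.card (Subgroup.centralizer ({t} : Set G))).factorization 2 = 2 := by
  haveI : Fact (Nat.Prime 2) := ⟨Nat.prime_two⟩
  have hcomm : ∀ a b : P, a * b = b * a :=
    IsPGroup.commutative_of_card_eq_prime_sq (p := 2) (hP4.trans (by norm_num))
  have hPC : (P : Subgroup G) ≤ Subgroup.centralizer ({t} : Set G) := by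
    intro x hx
    rw [Subgroup.mem_centralizer_singleton_iff]
    exact congrArg Subtype.val (hcomm ⟨x, hx⟩ ⟨t, htP⟩)
  have hG2 : (Nat.card G).factorization 2 = 2 := by
    have := P.card_eq_multiplicity
    rw [hP4] at this
    exact (Nat.pow_right_injective (le_refl 2) (by simpa using this)).symm
  have hC2 : (Nat.card (Subgroup.centralizer ({t} : Set G))).factorization 2 = 2 := by
    apply le_antisymm
    · have := (Nat.factorization_le_iff_dvd Nat.card_pos.ne' Nat.card_pos.ne').2
        (Subgroup.card_subgroup_dvd_card (Subgroup.centralizer ({t} : Set G))) 2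
      rwa [hG2] at this
    · have h1 : 2 ^ 2 ∣ Nat.card (Subgroup.centralizer ({t} : Set G)) := by
        have := Subgroup.card_dvd_of_le hPC
        rwa [hP4] at this
      exact (Nat.Prime.pow_dvd_iff_le_factorization Nat.prime_two Nat.card_pos.ne').1 h1
  refine ⟨?_, hC2⟩
  let Q : Sylow 2 (Subgroup.centralizer ({t} : Set G)) := default
  apply index_pPrimeCore_of_normalizer_le Q
  have htC : t ∈ Subgroup.centralizer ({t} : Set G) := by
    rw [Subgroup.mem_centralizer_singleton_iff]
  apply normalizer_le_centralizer_of_card_four Q (t := ⟨t, htC⟩)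
  · rw [Q.card_eq_multiplicity, hC2]; norm_num
  · intro h
    apply Subtype.ext
    have := h.2
    rw [Subgroup.mem_centralizer_singleton_iff] at this
    exact this.symm
  · rw [Subgroup.orderOf_mk]; exact ht2

end Cfsg.Agent.Lib.Helper24
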