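import Cfsg.Agent.Lib.Helper24.BlockSMT

set_option autoImplicit false
set_option linter.style.haveILetI false
set_option linter.unusedSectionVars false
open Cfsg
open Cfsg.Agent.Lib.Helper7
open scoped ComplexConjugate

namespace Cfsg.Agent.Lib.Helper24

universe u
variable {G : Type u} [Group G] [Fintype G] {M : Ideal AlgInt}

/-- The block part of a class function is its product with the block idempotent. -/
theorem blockPart_eq_sum_blockCoeff (B : Set (IrrCharacter G)) {ϑ : G → ℂ}
    (hϑ : IsClassFunction G ϑ) (y : G) :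
    blockPart B ϑ y = ∑ k, blockCoeff B k * ϑ (k * y) := by
  classical
  haveI := Fintype.ofFinite (IrrCharacter G)
  have hcard : (Nat.card G : ℂ) ≠ 0 := by exact_mod_cast Nat.card_pos.ne'
  have h1 : ∀ z : G, ∑ k, blockCoeff B k * ϑ (k * y)
      = ∑ g, blockCoeff B (z * g * z⁻¹ * y⁻¹) * ϑ g := by
    intro z
    symm
    apply Fintype.sum_equiv ((MulAut.conj z).toEquiv.trans (Equiv.mulRight y⁻¹))
    intro g
    have e1 : ((MulAut.conj z).toEquiv.trans (Equiv.mulRight y⁻¹)) g = z * g * z⁻¹ * y⁻¹ := by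
      simp
    rw [e1, inv_mul_cancel_right, hϑ]
  have h2 : (Nat.card G : ℂ) * ∑ k, blockCoeff B k * ϑ (k * y)
      = ∑ z : G, ∑ g, blockCoeff B (z * g * z⁻¹ * y⁻¹) * ϑ g := by
    rw [Finset.sum_congr rfl (fun z _ => (h1 z).symm), Finset.sum_const, Finset.card_univ,
      nsmul_eq_mul, Nat.card_eq_fintype_card]
  rw [Finset.sum_comm] at h2
  have h3 : ∀ g, ∑ z : G, blockCoeff B (z * g * z⁻¹ * y⁻¹) * ϑ g
      = ∑ χ : IrrCharacter G, B.indicator
        (fun χ => ϑ g * conj ((χ : G → ℂ) g) * (χ : G → ℂ) y) χ := by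
    intro g
    rw [← Finset.sum_mul, sum_blockCoeff_conj, Finset.sum_mul]
    apply Finset.sum_congr rfl
    intro χ _
    by_cases hχ : χ ∈ B
    · rw [Set.indicator_of_mem hχ, Set.indicator_of_mem hχ,
        char_inv_eq_conj (isCharacter_of_irr χ.2), Complex.conj_conj]
      ring
    · rw [Set.indicator_of_notMem hχ, Set.indicator_of_notMem hχ, zero_mul]
  simp only [h3] at h2
  rw [Finset.sum_comm] at h2
  rw [blockPart_apply, ← mul_right_inj' hcard, h2, Finset.mul_sum]
  apply Finset.sum_congr rfl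
  intro χ _
  by_cases hχ : χ ∈ B
  · simp only [Set.indicator_of_mem hχ]
    rw [classInner, ← Finset.sum_mul]
    field_simp
  · simp only [Set.indicator_of_notMem hχ]
    simp

end Cfsg.Agent.Lib.Helper24
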