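import Cfsg.Agent.Lib.Helper24.BlockSum
import Cfsg.Prelude.Def_BlockRank
import Mathlib.LinearAlgebra.Trace

set_option autoImplicit false
set_option linter.style.haveILetI false
set_option linter.unusedSectionVars false
open Cfsg
open Cfsg.Agent.Lib.Helper7
open scoped ComplexConjugate

namespace Cfsg.Agent.Lib.Helper24

universe u
variable {G : Type u} [Group G] {M : Ideal AlgInt} {p : ℕ}

theorem pRegularPart_eq_indicator (p : ℕ) (χ : G → ℂ) :
    pRegularPart p χ = ({x : G | ¬ p ∣ orderOf x} : Set G).indicator χ := by
  classical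
  ext g
  simp only [pRegularPart]
  by_cases hg : p ∣ orderOf g
  · rw [if_neg (fun h : IsPRegular p g => h hg),
      Set.indicator_of_notMem (s := {x : G | ¬ p ∣ orderOf x}) (fun h => h hg)]
  · rw [if_pos (show IsPRegular p g from hg),
      Set.indicator_of_mem (s := {x : G | ¬ p ∣ orderOf x}) hg]

variable [Fintype G]

/-- the inner product with `χ` as a linear functional -/
noncomputable def innerL (χ : G → ℂ) : (G → ℂ) →ₗ[ℂ] ℂ where
  toFun f := classInner f χ
  map_add' a b := classInner_add_left a b χ
  map_smul' r a := by simpa using classInner_smul_left r a χ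

/-- projection onto the span of the `p`-regular parts of the members of `A` -/
noncomputable def regProj [Fintype (IrrCharacter G)] (p : ℕ) (A : Set (IrrCharacter G)) :
    (G → ℂ) →ₗ[ℂ] (G → ℂ) :=
  ∑ χ : IrrCharacter G, (A.indicator (fun _ => (1 : ℂ)) χ) •
    (innerL (χ : G → ℂ)).smulRight (pRegularPart p (χ : G → ℂ))

theorem regProj_apply [Fintype (IrrCharacter G)] (p : ℕ) (A : Set (IrrCharacter G)) (f : G → ℂ) :
    regProj p A f = pRegularPart p (blockPart A f) := by
  classical
  ext g
  rw [pRegularPart_eq_indicator]
  simp only [regProj, LinearMap.sum_apply, LinearMap.smul_apply, LinearMap.smulRight_apply,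
    Finset.sum_apply, Pi.smul_apply, smul_eq_mul, innerL, LinearMap.coe_mk, AddHom.coe_mk]
  by_cases hg : p ∣ orderOf g
  · rw [Set.indicator_of_notMem (s := {x : G | ¬ p ∣ orderOf x}) (fun h => h hg)]
    apply Finset.sum_eq_zero
    intro χ _
    rw [pRegularPart_eq_indicator,
      Set.indicator_of_notMem (s := {x : G | ¬ p ∣ orderOf x}) (fun h => h hg)]
    simp
  · rw [Set.indicator_of_mem (s := {x : G | ¬ p ∣ orderOf x}) hg, blockPart_apply]
    apply Finset.sum_congr rfl
    intro χ _
    rw [pRegularPart_eq_indicator, Set.indicator_of_mem (s := {x : G | ¬ p ∣ orderOf x}) hg]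
    by_cases hχ : χ ∈ A
    · rw [Set.indicator_of_mem hχ, Set.indicator_of_mem hχ, one_mul]
    · rw [Set.indicator_of_notMem hχ, Set.indicator_of_notMem hχ, zero_mul]

theorem regProj_isProj [Fintype (IrrCharacter G)] (hM : IsPModular p M)
    {A : Set (IrrCharacter G)} (hA : IsBlockUnion M A) :
    LinearMap.IsProj (Submodule.span ℂ
      ((fun χ : IrrCharacter G => pRegularPart p (χ : G → ℂ)) '' A)) (regProj p A) := by
  classical
  constructor
  · intro f
    simp only [regProj, LinearMap.sum_apply, LinearMap.smul_apply, LinearMap.smulRight_apply]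
    apply Submodule.sum_mem
    intro χ _
    by_cases hχ : χ ∈ A
    · apply Submodule.smul_mem
      apply Submodule.smul_mem
      exact Submodule.subset_span ⟨χ, hχ, rfl⟩
    · rw [Set.indicator_of_notMem hχ, zero_smul]
      exact Submodule.zero_mem _
  · intro w hw
    induction hw using Submodule.span_induction with
    | mem x hx =>
      obtain ⟨χ, hχ, rfl⟩ := hx
      show regProj p A (pRegularPart p (χ : G → ℂ)) = pRegularPart p (χ : G → ℂ)
      rw [regProj_apply, pRegularPart_eq_indicator p (χ : G → ℂ),
        blockPart_indicator_union hM hA (isSectionClosed_regular hM.1), blockPart_self hχ,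
        pRegularPart_eq_indicator, Set.indicator_indicator, Set.inter_self]
    | zero => exact map_zero _
    | add x y _ _ hx hy => rw [map_add, hx, hy]
    | smul a x _ hx => rw [map_smul, hx]

/-- The rank formula: the `p`-regular rank of a union of blocks is the sum of the norms of the
`p`-regular parts. -/
theorem blockRank_eq_sum [Fintype (IrrCharacter G)] (hM : IsPModular p M)
    {A : Set (IrrCharacter G)} (hA : IsBlockUnion M A) :
    (blockRank p A : ℂ) = ∑ χ : IrrCharacter G, A.indicator
      (fun χ => classInner (pRegularPart p (χ : G → ℂ)) (χ : G → ℂ)) χ := by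
  classical
  have h1 := (regProj_isProj hM hA).trace
  rw [blockRank, ← h1, regProj, map_sum]
  apply Finset.sum_congr rfl
  intro χ _
  rw [map_smul, LinearMap.trace_smulRight, smul_eq_mul]
  by_cases hχ : χ ∈ A
  · rw [Set.indicator_of_mem hχ, Set.indicator_of_mem hχ, one_mul]
    rfl
  · rw [Set.indicator_of_notMem hχ, Set.indicator_of_notMem hχ, zero_mul]

end Cfsg.Agent.Lib.Helper24
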