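import Cfsg.Agent.Lib.Helper24.BlockExt
import Cfsg.Agent.Lib.Helper24.BlockComb

set_option autoImplicit false
set_option linter.style.haveILetI false
set_option linter.unusedSectionVars false
open Cfsg
open Cfsg.Agent.Lib.Helper7
open scoped ComplexConjugate

namespace Cfsg.Agent.Lib.Helper24

universe u
variable {G : Type u} [Group G] [Fintype G] {M : Ideal AlgInt}

/-- Group-level vanishing theorem, two sections. -/
theorem sum_conj_eq_zero_of_fix' [DecidableEq G] {p : ℕ} (hM : IsPModular p M) (y : G → ℂ)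
    (hyR : ∀ g, MemLocalRing M (y g)) (hyy : conv y y = y) {a b u₀ v : G}
    (hya : ∀ x, y (a * x * a⁻¹) = y x) (ha : IsPPart p a u₀) (hb : IsPPart p b v)
    (hy0 : ∀ c, u₀ * c = c * u₀ → MemLocalIdeal M (y c)) :
    ∑ j, y (j * b * j⁻¹ * a⁻¹) = 0 := by
  let π : Equiv.Perm G := Equiv.mulLeft a * Equiv.mulRight b⁻¹
  have hcomm : Commute (Equiv.mulLeft a) (Equiv.mulRight b⁻¹) := by
    ext z; simp [mul_assoc]
  have hπk : ∀ (k : ℤ) (z : G), (π ^ k) z = a ^ k * z * (b⁻¹) ^ k := by
    intro k z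
    simp only [π]
    rw [hcomm.mul_zpow, Equiv.zpow_mulLeft, Equiv.zpow_mulRight]
    simp [mul_assoc]
  have hπ1 : ∀ z, π z = a * z * b⁻¹ := by
    intro z
    simp [π, mul_assoc]
  have hua := isPPart_commute ha
  have hub := isPPart_commute hb
  have hub' : v * b⁻¹ = b⁻¹ * v := by
    have : b⁻¹ * (v * b) * b⁻¹ = b⁻¹ * (b * v) * b⁻¹ := by rw [hub]
    simpa [mul_assoc] using this.symm
  have key := sum_perm_eq_zero_of_fix hM π {w : G | u₀ * w = w * v}
    (by
      intro x
      simp only [Set.mem_ofPred_eq, hπ1]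
      constructor
      · intro h
        have h1 : a * (u₀ * x) * b⁻¹ = a * (x * v) * b⁻¹ := by
          calc a * (u₀ * x) * b⁻¹ = (u₀ * a) * x * b⁻¹ := by rw [hua]; simp only [mul_assoc]
            _ = u₀ * (a * x * b⁻¹) := by simp only [mul_assoc]
            _ = a * x * b⁻¹ * v := h
            _ = a * x * (v * b⁻¹) := by rw [hub']; simp only [mul_assoc]
            _ = a * (x * v) * b⁻¹ := by simp only [mul_assoc]
        exact mul_left_cancel (mul_right_cancel h1)
      · intro h
        calc u₀ * (a * x * b⁻¹) = (u₀ * a) * x * b⁻¹ := by simp only [mul_assoc]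
          _ = a * (u₀ * x) * b⁻¹ := by rw [hua]; simp only [mul_assoc]
          _ = a * x * (v * b⁻¹) := by rw [h]; simp only [mul_assoc]
          _ = a * x * b⁻¹ * v := by rw [hub']; simp only [mul_assoc])
    (by
      intro x hx k hk
      by_contra hpk
      apply hx
      obtain ⟨m, hm1, hm2⟩ := exists_zpow_eq_pPart hM.1 ha hb hpk
      rw [hπk, inv_zpow, mul_inv_eq_iff_eq_mul] at hk
      have := conj_zpow_eq hk m
      rw [hm1, hm2] at this
      exact this)
    (Lmat y)
    (by rw [Lmat_mul, hyy])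
    (fun i j => hyR _)
    (by
      intro i j
      simp only [Lmat, hπ1]
      have : a * i * b⁻¹ * (a * j * b⁻¹)⁻¹ = a * (i * j⁻¹) * a⁻¹ := by group
      rw [this, hya])
    (by
      intro i hi j hj
      simp only [Set.mem_ofPred_eq] at hi hj
      apply hy0
      have hj' : v * j⁻¹ = j⁻¹ * u₀ := by
        have : j⁻¹ * (u₀ * j) * j⁻¹ = j⁻¹ * (j * v) * j⁻¹ := by rw [hj]
        simpa [mul_assoc] using this.symm
      rw [← mul_assoc, hi, mul_assoc, hj', mul_assoc])
  rw [← key]
  apply Finset.sum_congr rfl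
  intro j _
  simp only [Lmat, hπ1]
  congr 1
  group

theorem Lmat_injective {f g : G → ℂ} (h : Lmat f = Lmat g) : f = g := by
  ext x
  have := congrFun (congrFun h x) 1
  simpa [Lmat] using this

theorem conv_idem_of_comm {e f : G → ℂ} (he : conv e e = e) (hf : conv f f = f)
    (hc : conv e f = conv f e) : conv (conv e f) (conv e f) = conv e f := by
  apply Lmat_injective
  rw [← Lmat_mul, ← Lmat_mul]
  have h1 : Lmat e * Lmat e = Lmat e := by rw [Lmat_mul, he]
  have h2 : Lmat f * Lmat f = Lmat f := by rw [Lmat_mul, hf]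
  have h3 : Lmat f * Lmat e = Lmat e * Lmat f := by rw [Lmat_mul, Lmat_mul, hc]
  calc Lmat e * Lmat f * (Lmat e * Lmat f)
      = Lmat e * (Lmat f * Lmat e) * Lmat f := by simp only [mul_assoc]
    _ = Lmat e * (Lmat e * Lmat f) * Lmat f := by rw [h3]
    _ = (Lmat e * Lmat e) * (Lmat f * Lmat f) := by simp only [mul_assoc]
    _ = Lmat e * Lmat f := by rw [h1, h2]

theorem class_out_eq {c : G → ℂ} (hc : IsClassFunction G c) (g : G) :
    c (ConjClasses.mk g).out = c g := by
  have h1 : IsConj (ConjClasses.mk g).out g :=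
    ConjClasses.mk_eq_mk_iff_isConj.1 (Quotient.out_eq _)
  obtain ⟨w, hw⟩ := isConj_iff.1 h1
  have h2 := hc (ConjClasses.mk g).out w
  rw [hw] at h2
  exact h2.symm

theorem Om_restrict [Fintype (ConjClasses G)] (H : Subgroup G) [Fintype H] {c : G → ℂ}
    (hc : IsClassFunction G c) (ψ : IrrCharacter H) :
    Om (fun h : H => c h) ψ
      = ∑ K : ConjClasses G, c K.out * inducedCentralChar H (ψ : H → ℂ) K.out := by
  classical
  have h1 : ∀ K : ConjClasses G, inducedCentralChar H (ψ : H → ℂ) K.out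
      = ∑ h : H, if ConjClasses.mk (h : G) = K then (ψ : H → ℂ) h / (ψ : H → ℂ) 1 else 0 := by
    intro K
    rw [inducedCentralChar, finsum_mem_eq_sum_indicator]
    apply Finset.sum_congr rfl
    intro h _
    by_cases hK : ConjClasses.mk (h : G) = K
    · rw [if_pos hK, Set.indicator_of_mem]
      show IsConj K.out (h : G)
      rw [← ConjClasses.mk_eq_mk_iff_isConj, hK]
      exact Quotient.out_eq K
    · rw [if_neg hK, Set.indicator_of_notMem]
      intro hmem
      apply hK
      have h2 : IsConj K.out (h : G) := hmem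
      rw [← ConjClasses.mk_eq_mk_iff_isConj] at h2
      rw [← h2]
      exact Quotient.out_eq K
  simp only [h1, Om, Finset.mul_sum]
  rw [Finset.sum_comm, Finset.sum_div]
  apply Finset.sum_congr rfl
  intro h _
  rw [Finset.sum_eq_single (ConjClasses.mk (h : G))]
  · rw [if_pos rfl, class_out_eq hc, mul_div_assoc]
  · intro K _ hK
    rw [if_neg (Ne.symm hK), mul_zero]
  · intro hh
    exact absurd (Finset.mem_univ _) hh

/-- Second main theorem, idempotent form. -/
theorem second_main_idem [DecidableEq G] {p : ℕ} (hM : IsPModular p M) (H : Subgroup G)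
    [Fintype H] (b : Set (IrrCharacter H)) (B : Set (IrrCharacter G))
    (hind : IsInducedBlock M H b B) (h : H)
    (hC : ∀ z : G, IsPPart p (h : G) z → Subgroup.centralizer ({z} : Set G) ≤ H)
    (χ : IrrCharacter G) (hχ : χ ∉ B) :
    ∑ k : H, blockCoeff b k * (χ : G → ℂ) ((k : G) * (h : G)) = 0 := by
  haveI := hM.2.1.isPrime
  haveI := Fintype.ofFinite (IrrCharacter G)
  haveI := Fintype.ofFinite (IrrCharacter H)
  haveI := Fintype.ofFinite (ConjClasses G)
  obtain ⟨hb, hB, hbB⟩ := hind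
  obtain ⟨χB, hχB⟩ := isPBlock_nonempty hB
  obtain ⟨ψ₀, hψ₀⟩ := isPBlock_nonempty hb
  obtain ⟨B', hB'def⟩ : ∃ B', B' = blockOf M (χ : G → ℂ) := ⟨_, rfl⟩
  have hB' : IsPBlock M B' := ⟨χ, hB'def⟩
  have hχB' : χ ∈ B' := by rw [hB'def]; exact self_mem_blockOf χ
  have hχBB' : χB ∉ B' := by
    intro hmem
    apply hχ
    rw [isPBlock_eq_blockOf hB hχB, ← isPBlock_eq_blockOf hB' hmem]
    exact hχB'
  obtain ⟨u₀, hu₀⟩ := exists_pPart hM.1 (h : G)
  have hCu := hC u₀ hu₀
  have hcent : ∀ c, u₀ * c = c * u₀ → c ∈ H := by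
    intro c hc
    apply hCu
    rw [Subgroup.mem_centralizer_iff]
    intro z hz
    rw [Set.mem_singleton_iff] at hz
    subst hz
    exact hc
  have hu₀H : u₀ ∈ H := hcent u₀ rfl
  obtain ⟨e, he⟩ : ∃ e, orderOf u₀ = p ^ e := by
    obtain ⟨_, _, _, hk, _⟩ := hu₀
    exact hk
  obtain ⟨eb, hebdef⟩ : ∃ eb, eb = blockCoeff b := ⟨_, rfl⟩
  obtain ⟨e', he'def⟩ : ∃ e', e' = blockCoeff B' := ⟨_, rfl⟩
  obtain ⟨z', hz'def⟩ : ∃ z' : H → ℂ, z' = fun k : H => e' (k : G) := ⟨_, rfl⟩
  obtain ⟨t, htdef⟩ : ∃ t, t = conv eb z' := ⟨_, rfl⟩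
  obtain ⟨s, hsdef⟩ : ∃ s, s = extendByZero H t := ⟨_, rfl⟩
  obtain ⟨y, hydef⟩ : ∃ y, y = conv (extendByZero H eb) e' := ⟨_, rfl⟩
  have hebc : IsClassFunction H eb := by rw [hebdef]; exact isClassFunction_blockCoeff b
  have he'c : IsClassFunction G e' := by rw [he'def]; exact isClassFunction_blockCoeff B'
  have hz'c : IsClassFunction H z' := by
    rw [hz'def]
    exact fun g x => he'c (g : G) (x : G)
  have htc : IsClassFunction H t := by rw [htdef]; exact isClassFunction_conv hebc hz'c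
  have hebR : ∀ k, MemLocalRing M (eb k) := by rw [hebdef]; exact osima hb
  have he'R : ∀ g, MemLocalRing M (e' g) := by rw [he'def]; exact osima hB'
  have htR : ∀ k, MemLocalRing M (t k) := by
    intro k
    rw [htdef, hz'def]
    exact memLocalRing_sum _ _ fun g _ => memLocalRing_mul (hebR g) (he'R _)
  have hextR : ∀ f : H → ℂ, (∀ k, MemLocalRing M (f k)) →
      ∀ g, MemLocalRing M (extendByZero H f g) := by
    intro f hf g
    by_cases hg : g ∈ H
    · rw [ext_of_mem H f hg]; exact hf _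
    · rw [ext_of_not_mem H f hg]; exact memLocalRing_zero
  have hyR : ∀ g, MemLocalRing M (y g) := by
    intro g
    rw [hydef]
    exact memLocalRing_sum _ _ fun k _ => memLocalRing_mul (hextR eb hebR k) (he'R _)
  have hsR : ∀ g, MemLocalRing M (s g) := by rw [hsdef]; exact hextR t htR
  have hyy : conv y y = y := by
    rw [hydef]
    apply conv_idem_of_comm
    · rw [conv_ext_ext, hebdef, conv_blockCoeff]
    · rw [he'def, conv_blockCoeff]
    · exact (conv_comm_of_class he'c _).symm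
  have hyH : ∀ k ∈ H, ∀ x, y (k * x * k⁻¹) = y x := by
    intro k hk x
    rw [hydef]
    exact conv_conj (fun x => ext_conj H hebc hk x) (fun x => he'c x k) x
  have hsH : ∀ k ∈ H, ∀ x, s (k * x * k⁻¹) = s x := by
    intro k hk x
    rw [hsdef]
    exact ext_conj H htc hk x
  have hys : ∀ c ∈ H, y c = s c := by
    intro c hc
    rw [hydef, hsdef, conv_ext_apply, ext_of_mem H t hc, htdef, hz'def]
    rfl
  have hOm : ∀ ψ, MemLocalIdeal M (Om t ψ) := by
    intro ψ
    have h1 : Om t ψ = Om eb ψ * Om z' ψ := by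
      rw [htdef]
      exact congrFun (Om_conv hebc z') ψ
    have h3 : Om eb = b.indicator (fun _ => (1 : ℂ)) := by rw [hebdef, Om_blockCoeff]
    rw [h1, h3]
    by_cases hψ : ψ ∈ b
    · rw [Set.indicator_of_mem hψ, one_mul, hz'def, Om_restrict H he'c ψ]
      have h2 : Om e' χB = 0 := by rw [he'def, Om_blockCoeff, Set.indicator_of_notMem hχBB']
      rw [Om_eq_sum_centralChar he'c χB] at h2
      rw [← sub_zero (∑ K : ConjClasses G, _), ← h2, ← Finset.sum_sub_distrib]
      apply memLocalIdeal_sum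
      intro K _
      rw [← mul_sub]
      exact memLocalIdeal_mul_left (he'R _) (hbB ψ hψ χB hχB _)
    · rw [Set.indicator_of_notMem hψ, zero_mul]; exact memLocalIdeal_zero
  have hN : Fintype.card (IrrCharacter H) ≠ 0 := by
    haveI : Nonempty (IrrCharacter H) := ⟨ψ₀⟩
    exact Fintype.card_ne_zero
  have hs : ∀ g, MemLocalIdeal M (convPow s (Fintype.card (IrrCharacter H)) g) := by
    intro g
    rw [hsdef, convPow_ext]
    by_cases hg : g ∈ H
    · rw [ext_of_mem H _ hg]; exact convPow_mem htc htR hOm _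
    · rw [ext_of_not_mem H _ hg]; exact memLocalIdeal_zero
  have hy0 := mem_ideal_of_nilpotent hM y s hyR hsR hyy he (hyH u₀ hu₀H) (hsH u₀ hu₀H) _ hN hs
    (fun c hc => hys c (hcent c hc))
  have hvan : ∀ g', ∑ j, y (j * g' * j⁻¹ * (h : G)⁻¹) = 0 := by
    intro g'
    obtain ⟨v, hv⟩ := exists_pPart hM.1 g'
    exact sum_conj_eq_zero_of_fix' hM y hyR hyy (hyH h h.2) hu₀ hv hy0
  obtain ⟨S, hSdef⟩ : ∃ S : IrrCharacter G → ℂ,
      S = fun φ : IrrCharacter G => ∑ k : H, eb k * (φ : G → ℂ) ((k : G) * (h : G)) := ⟨_, rfl⟩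
  have htr : ∀ g', ∑ j, y (j * g' * j⁻¹ * (h : G)⁻¹)
      = ∑ φ : IrrCharacter G, B'.indicator (fun φ => conj ((φ : G → ℂ) g') * S φ) φ := by
    intro g'
    have h1 : ∀ j, y (j * g' * j⁻¹ * (h : G)⁻¹)
        = ∑ k : H, eb k * e' (j * g' * j⁻¹ * ((k : G) * (h : G))⁻¹) := by
      intro j
      rw [hydef, conv_ext_apply]
      apply Finset.sum_congr rfl
      intro k _
      congr 1
      rw [← he'c _ (k : G)]
      congr 1
      group
    simp only [h1]
    rw [Finset.sum_comm]
    have h2 : ∀ k : H, ∑ j, eb k * e' (j * g' * j⁻¹ * ((k : G) * (h : G))⁻¹)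
        = ∑ φ : IrrCharacter G, B'.indicator
          (fun φ => conj ((φ : G → ℂ) g') * (eb k * (φ : G → ℂ) ((k : G) * (h : G)))) φ := by
      intro k
      rw [← Finset.mul_sum, he'def, sum_blockCoeff_conj, Finset.mul_sum]
      apply Finset.sum_congr rfl
      intro φ _
      by_cases hφ : φ ∈ B'
      · rw [Set.indicator_of_mem hφ, Set.indicator_of_mem hφ,
          char_inv_eq_conj (isCharacter_of_irr φ.2), Complex.conj_conj]
        ring
      · rw [Set.indicator_of_notMem hφ, Set.indicator_of_notMem hφ, mul_zero]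
    simp only [h2]
    rw [Finset.sum_comm]
    apply Finset.sum_congr rfl
    intro φ _
    by_cases hφ : φ ∈ B'
    · simp only [Set.indicator_of_mem hφ]
      rw [hSdef, Finset.mul_sum]
    · simp only [Set.indicator_of_notMem hφ]
      exact Finset.sum_const_zero
  have hzero : (∑ φ : IrrCharacter G, (B'.indicator S φ) • (φ : G → ℂ)) = 0 := by
    ext g
    rw [Finset.sum_apply, Pi.zero_apply, ← hvan g⁻¹, htr g⁻¹]
    apply Finset.sum_congr rfl
    intro φ _
    by_cases hφ : φ ∈ B'
    · rw [Set.indicator_of_mem hφ, Set.indicator_of_mem hφ, Pi.smul_apply, smul_eq_mul,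
        char_inv_eq_conj (isCharacter_of_irr φ.2), Complex.conj_conj, mul_comm]
    · rw [Set.indicator_of_notMem hφ, Set.indicator_of_notMem hφ, Pi.smul_apply, zero_smul]
  have hfin := classInner_comb (B'.indicator S) χ
  rw [hzero, Set.indicator_of_mem hχB'] at hfin
  have hS : S χ = 0 := by
    rw [← hfin]
    simp [classInner]
  rw [hSdef, hebdef] at hS
  exact hS

end Cfsg.Agent.Lib.Helper24
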