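import Cfsg.Agent.Lib.Helper24.BlockThird
import Cfsg.Prelude.Def_BrauerPairs

set_option autoImplicit false
open Cfsg
open scoped ComplexConjugate

namespace Cfsg.Agent.Lib.Helper24

open Cfsg.Agent.Lib.Helper7

universe u
variable {G : Type u} [Group G] {M : Ideal AlgInt} {p : ℕ}

theorem brauerOmega_eq_Om (Q : Subgroup G) [Fintype (Subgroup.centralizer (Q : Set G))]
    (β : G → ℂ) (ξ : IrrCharacter (Subgroup.centralizer (Q : Set G))) :
    brauerOmega Q β (ξ : Subgroup.centralizer (Q : Set G) → ℂ)
      = Om (resH (Subgroup.centralizer (Q : Set G)) β) ξ := by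
  unfold brauerOmega
  rw [finsum_eq_sum_of_fintype, ← Finset.sum_div]
  rfl

theorem brH_centralizer (Q : Subgroup G) (c : G → ℂ) :
    brH Q (Subgroup.centralizer (Q : Set G)) c = resH (Subgroup.centralizer (Q : Set G)) c := by
  ext h
  simp [brH, resH]

variable [Fintype G]

/-- Every irreducible character of `C_G(Q)` determines a block of `G` through the Brauer map. -/
theorem exists_block_of_centralizer (hM : IsPModular p M) {Q : Subgroup G} (hQ : IsPGroup p Q)
    (ξ : IrrCharacter (Subgroup.centralizer (Q : Set G))) :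
    ∃ B : Set (IrrCharacter G), IsPBlock M B ∧ ∀ χ ∈ B, ∀ c, IsClassFunction G c →
      (∀ g, MemLocalRing M (c g)) →
      MemLocalIdeal M (brauerOmega Q c (ξ : Subgroup.centralizer (Q : Set G) → ℂ) - Om c χ) := by
  classical
  obtain ⟨B, hB, h⟩ := exists_block_brauer hM hQ (le_refl _)
    (Subgroup.centralizer_le_normalizer _) ξ
  refine ⟨B, hB, fun χ hχ c hc hcS => ?_⟩
  have := h χ hχ c hc hcS
  rw [brH_centralizer] at this
  rw [brauerOmega_eq_Om]
  convert this

/-- Brauer's third main theorem for Brauer pairs. -/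
theorem isBrauerPairOf_principal_iff (hM : IsPModular p M) {Q : Subgroup G} (hQ : IsPGroup p Q)
    {e : Set (IrrCharacter (Subgroup.centralizer (Q : Set G)))} (he : IsPBlock M e) :
    IsBrauerPairOf p M (principalBlock M G) Q e
      ↔ e = principalBlock M (Subgroup.centralizer (Q : Set G)) := by
  classical
  haveI := hM.2.1.isPrime
  have key : ∀ ξ : IrrCharacter (Subgroup.centralizer (Q : Set G)),
      (ξ ∈ principalBlock M (Subgroup.centralizer (Q : Set G)) ↔
        MemLocalIdeal M (brauerOmega Q (blockCoeff (principalBlock M G))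
          (ξ : Subgroup.centralizer (Q : Set G) → ℂ) - 1)) := by
    intro ξ
    obtain ⟨B, hB, h⟩ := exists_block_of_centralizer hM hQ ξ
    obtain ⟨χ, hχ⟩ := isPBlock_nonempty hB
    have h1 := h χ hχ _ (isClassFunction_regInd (G := G) p) (memLocalRing_regInd p)
    rw [brauerOmega_eq_Om, resH_regInd] at h1
    have h2 := h χ hχ _ (isClassFunction_blockCoeff (principalBlock M G))
      (osima isPBlock_principalBlock)
    rw [Om_blockCoeff] at h2
    constructor
    · intro hξ
      have h3 := (mem_principalBlock_iff hM ξ).1 hξ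
      have h4 : χ ∈ principalBlock M G :=
        (mem_principalBlock_iff hM χ).2
          (not_memLocalIdeal_of_sub (memLocalIdeal_sub_comm h1) h3)
      rwa [Set.indicator_of_mem h4] at h2
    · intro hξ
      have h4 : χ ∈ principalBlock M G := by
        by_contra hn
        rw [Set.indicator_of_notMem hn, sub_zero] at h2
        have h3 : MemLocalIdeal M (1 : ℂ) := by
          have := memLocalIdeal_sub h2 hξ
          simpa using this
        exact not_memLocalIdeal_one h3
      have h3 := (mem_principalBlock_iff hM χ).1 h4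
      exact (mem_principalBlock_iff hM ξ).2 (not_memLocalIdeal_of_sub h1 h3)
  constructor
  · intro h
    obtain ⟨ξ, hξ⟩ := isPBlock_nonempty he
    exact eq_principalBlock he hξ ((key ξ).2 (h.2.2 ξ hξ))
  · rintro rfl
    exact ⟨⟨hQ, he⟩, isPBlock_principalBlock, fun ξ hξ => (key ξ).1 hξ⟩

end Cfsg.Agent.Lib.Helper24
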