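import Mathlib

set_option autoImplicit false

namespace Cfsg.Agent.Lib.Helper24

open Polynomial IsCyclotomicExtension

/-- The norm argument for sums of roots of unity: if `q * ∑ μ i` is a nonzero algebraic integer
(`μ i` being `m`-th roots of unity and `q` rational) then the product of the absolute values of
its Galois conjugates `q * ∑ μ i ^ k`, `k` a unit modulo `m`, is at least `1`. -/
theorem one_le_prod_norm_conjugates_aux (m : ℕ) [NeZero m] (L : Type) [Field L] [Algebra ℚ L]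
    [IsCyclotomicExtension {m} ℚ L] {ι : Type*} [Fintype ι] (μ : ι → ℂ)
    (hμ : ∀ i, μ i ^ m = 1) (q : ℚ) (hint : IsIntegral ℤ ((q : ℂ) * ∑ i, μ i))
    (hne : (q : ℂ) * ∑ i, μ i ≠ 0) :
    1 ≤ ∏ k : (ZMod m)ˣ, ‖(q : ℂ) * ∑ i, μ i ^ (k : ZMod m).val‖ := by
  classical
  have hirr : Irreducible (cyclotomic m ℚ) := cyclotomic.irreducible_rat (NeZero.pos m)
  have hgal : IsGalois ℚ L := IsCyclotomicExtension.isGalois {m} ℚ L
  have hfd : FiniteDimensional ℚ L := IsCyclotomicExtension.finiteDimensional {m} ℚ L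
  let ζL : L := zeta m ℚ L
  have hζL : IsPrimitiveRoot ζL m := zeta_spec m ℚ L
  let φ₀ : L →ₐ[ℚ] ℂ := IsAlgClosed.lift
  have hζ : IsPrimitiveRoot (φ₀ ζL) m := hζL.map_of_injective φ₀.injective
  have hex : ∀ i, ∃ e : ℕ, (φ₀ ζL) ^ e = μ i := fun i => by
    obtain ⟨e, -, he⟩ := hζ.eq_pow_of_pow_eq_one (hμ i)
    exact ⟨e, he⟩
  choose e he using hex
  let x : L := algebraMap ℚ L q * ∑ i, ζL ^ e i
  have hσ : ∀ σ : Gal(L/ℚ), φ₀ (σ x)
      = (q : ℂ) * ∑ i, μ i ^ ((autEquivPow L hirr σ : (ZMod m)ˣ) : ZMod m).val := by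
    intro σ
    have h1 : σ ζL = ζL ^ ((autEquivPow L hirr σ : (ZMod m)ˣ) : ZMod m).val :=
      (IsPrimitiveRoot.autToPow_spec ℚ hζL σ).symm
    simp only [x, map_mul, map_sum, map_pow, AlgEquiv.commutes, AlgHom.commutes, h1]
    congr 1
    refine Finset.sum_congr rfl fun i _ => ?_
    rw [← he i, ← pow_mul, ← pow_mul, mul_comm]
  have hx1 : φ₀ x = (q : ℂ) * ∑ i, μ i := by
    simp only [x, map_mul, map_sum, map_pow, AlgHom.commutes, he]
    rfl
  have hxint : IsIntegral ℤ x := by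
    have := (isIntegral_algHom_iff (φ₀.restrictScalars ℤ) φ₀.injective (x := x)).1
      (by
        show IsIntegral ℤ (φ₀ x)
        rw [hx1]; exact hint)
    exact this
  have hx0 : x ≠ 0 := by
    intro h
    apply hne
    rw [← hx1, h, map_zero]
  have hNint : IsIntegral ℤ (Algebra.norm ℚ x) := Algebra.isIntegral_norm ℚ hxint
  obtain ⟨z, hz⟩ := IsIntegrallyClosed.isIntegral_iff.1 hNint
  have hN0 : Algebra.norm ℚ x ≠ 0 := Algebra.norm_ne_zero_iff.2 hx0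
  have hz0 : z ≠ 0 := by
    rintro rfl
    apply hN0
    rw [← hz]; simp
  have hprod : ((Algebra.norm ℚ x : ℚ) : ℂ)
      = ∏ k : (ZMod m)ˣ, ((q : ℂ) * ∑ i, μ i ^ (k : ZMod m).val) := by
    have h1 := Algebra.norm_eq_prod_automorphisms ℚ x
    have h2 := congrArg φ₀ h1
    rw [AlgHom.commutes, map_prod] at h2
    have h3 : (algebraMap ℚ ℂ) (Algebra.norm ℚ x) = ((Algebra.norm ℚ x : ℚ) : ℂ) := rfl
    rw [← h3, h2]
    refine Fintype.prod_equiv (autEquivPow L hirr).toEquiv _ _ fun σ => ?_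
    exact hσ σ
  rw [← norm_prod, ← hprod, ← hz]
  have h4 : ((algebraMap ℤ ℚ z : ℚ) : ℂ) = (z : ℂ) := by simp
  rw [h4, Complex.norm_intCast]
  have : (1 : ℤ) ≤ |z| := Int.one_le_abs hz0
  exact_mod_cast this

theorem one_le_prod_norm_conjugates (m : ℕ) [NeZero m] {ι : Type*} [Fintype ι] (μ : ι → ℂ)
    (hμ : ∀ i, μ i ^ m = 1) (q : ℚ) (hint : IsIntegral ℤ ((q : ℂ) * ∑ i, μ i))
    (hne : (q : ℂ) * ∑ i, μ i ≠ 0) :
    1 ≤ ∏ k : (ZMod m)ˣ, ‖(q : ℂ) * ∑ i, μ i ^ (k : ZMod m).val‖ :=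
  @one_le_prod_norm_conjugates_aux m _ (CyclotomicField m ℚ) _ (CyclotomicField.algebra m ℚ)
    inferInstance _ _ μ hμ q hint hne

end Cfsg.Agent.Lib.Helper24
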