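import Cfsg.Agent.Lib.Helper24.BlockThird

set_option autoImplicit false
set_option linter.style.haveILetI false
set_option linter.unusedSectionVars false
open Cfsg
open Cfsg.Agent.Lib.Helper7
open scoped ComplexConjugate

namespace Cfsg.Agent.Lib.Helper24

universe u
variable {G : Type u} [Group G] {M : Ideal AlgInt}

theorem ne_inv_of_odd {g : G} (hg : ¬ 2 ∣ orderOf g) (h1 : g ≠ 1) : g ≠ g⁻¹ := by
  intro h
  have h2 : g ^ 2 = 1 := by
    rw [pow_two]
    nth_rewrite 2 [h]
    exact mul_inv_cancel g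
  have h3 := orderOf_dvd_of_pow_eq_one h2
  rcases (Nat.dvd_prime Nat.prime_two).1 h3 with h4 | h4
  · exact h1 (orderOf_eq_one_iff.1 h4)
  · exact hg (by rw [h4])

/-- An odd degree irreducible character lying in the same 2-block as a character which agrees
with its complex conjugate on elements of odd order lies in the principal 2-block. -/
theorem mem_principalBlock_of_odd [Fintype G] (hM : IsPModular 2 M) (χ ψ : IrrCharacter G)
    (hs : SameBlock M (χ : G → ℂ) (ψ : G → ℂ))
    (hψ : ∀ g : G, ¬ 2 ∣ orderOf g → (ψ : G → ℂ) g = (χ : G → ℂ) g⁻¹)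
    (hodd : ¬ 2 ∣ charDegree (χ : G → ℂ)) : χ ∈ principalBlock M G := by
  classical
  haveI := hM.2.1.isPrime
  rw [mem_principalBlock_iff hM]
  cases nonempty_fintype (ConjClasses G)
  let e : ConjClasses G → ℕ := fun K => (Fintype.equivFin (ConjClasses G) K : ℕ)
  have he : Function.Injective e := fun a b h =>
    (Fintype.equivFin (ConjClasses G)).injective (Fin.ext h)
  let e' : G → ℕ := fun g => (Fintype.equivFin G g : ℕ)
  have he' : Function.Injective e' := fun a b h => (Fintype.equivFin G).injective (Fin.ext h)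
  let cY : G → ℂ := fun g =>
    if ¬ 2 ∣ orderOf g ∧ e (ConjClasses.mk g) < e (ConjClasses.mk g⁻¹) then 1 else 0
  let cH : G → ℂ := fun g =>
    if (¬ 2 ∣ orderOf g ∧ g ≠ 1 ∧ ConjClasses.mk g = ConjClasses.mk g⁻¹) ∧ e' g < e' g⁻¹
    then 1 else 0
  have hχ1 : (χ : G → ℂ) 1 ≠ 0 := irr_apply_one_ne_zero χ.2
  have hψ1 : (ψ : G → ℂ) 1 = (χ : G → ℂ) 1 := by
    have := hψ 1 (by simp)
    simpa using this
  have hpt : ∀ g : G, regInd 2 G g
      = (if g = 1 then 1 else 0) + cY g + cY g⁻¹ + (cH g + cH g⁻¹) := by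
    intro g
    by_cases hg : 2 ∣ orderOf g
    · have hg1 : g ≠ 1 := by
        rintro rfl
        simp at hg
      have hgm : orderOf g % 2 ≠ 1 := by omega
      rw [regInd_of_singular hg]
      simp [cY, cH, hgm, hg1]
    · rw [regInd_of_regular hg]
      by_cases hg1 : g = 1
      · subst hg1
        simp [cY, cH]
      · have hgm : orderOf g % 2 = 1 := Nat.two_dvd_ne_zero.1 hg
        have hne := ne_inv_of_odd hg hg1
        have hg1' : g⁻¹ ≠ 1 := by simpa using hg1
        rcases lt_trichotomy (e (ConjClasses.mk g)) (e (ConjClasses.mk g⁻¹)) with h | h | h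
        · have hne2 : ConjClasses.mk g ≠ ConjClasses.mk g⁻¹ := fun h' => by
            rw [h'] at h; exact lt_irrefl _ h
          simp [cY, cH, hgm, hg1, h, h.le.not_gt, hne2, hne2.symm]
        · have h' := he h
          rcases lt_trichotomy (e' g) (e' g⁻¹) with h2 | h2 | h2
          · simp [cY, cH, hgm, hg1, h', h2, h2.le.not_gt]
          · exact absurd (he' h2) hne
          · simp [cY, cH, hgm, hg1, h', h2, h2.le.not_gt]
        · have hne2 : ConjClasses.mk g ≠ ConjClasses.mk g⁻¹ := fun h' => by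
            rw [h'] at h; exact lt_irrefl _ h
          simp [cY, cH, hgm, hg1, h, h.le.not_gt, hne2, hne2.symm]
  have hcYc : IsClassFunction G cY := by
    intro g x
    have h1 : orderOf (x * g * x⁻¹) = orderOf g := orderOf_conj' x g
    have h2 : ConjClasses.mk (x * g * x⁻¹) = ConjClasses.mk g :=
      ConjClasses.mk_eq_mk_iff_isConj.2 (isConj_iff.2 ⟨x, rfl⟩).symm
    have h3 : ConjClasses.mk (x * g * x⁻¹)⁻¹ = ConjClasses.mk g⁻¹ :=
      ConjClasses.mk_eq_mk_iff_isConj.2 (isConj_iff.2 ⟨x, by group⟩).symm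
    simp only [cY, h1, h2, h3]
  have hcYR : ∀ g, MemLocalRing M (cY g) := by
    intro g
    simp only [cY]
    split_ifs
    exacts [memLocalRing_one, memLocalRing_zero]
  have hmem : Om cY ∈ centralSubring (G := G) (localRing M) := ⟨cY, hcYc, hcYR, rfl⟩
  have hcong : MemLocalIdeal M (Om cY χ - Om cY ψ) := centralSubring_congr hmem hs
  have hOmR : MemLocalRing M (Om cY χ) := centralSubring_apply_mem hmem χ
  have h2I : MemLocalIdeal M (2 : ℂ) := by
    have := memLocalIdeal_p hM
    simpa using this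
  have hsumY' : ∑ g, cY g⁻¹ * (χ : G → ℂ) g = ∑ g, cY g * (ψ : G → ℂ) g := by
    apply Fintype.sum_equiv (Equiv.inv G)
    intro g
    simp only [Equiv.inv_apply]
    by_cases hg : ¬ 2 ∣ orderOf g⁻¹
    · rw [hψ _ hg, inv_inv]
    · have : cY g⁻¹ = 0 := by simp only [cY, hg, false_and, if_false]
      rw [this, zero_mul, zero_mul]
  have hsumH' : ∑ g, cH g⁻¹ * (χ : G → ℂ) g = ∑ g, cH g * (χ : G → ℂ) g := by
    apply Fintype.sum_equiv (Equiv.inv G)
    intro g
    simp only [Equiv.inv_apply]
    by_cases hg : ConjClasses.mk g⁻¹ = ConjClasses.mk g⁻¹⁻¹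
    · have h1 : IsConj g⁻¹ g := by
        rw [inv_inv] at hg
        exact ConjClasses.mk_eq_mk_iff_isConj.1 hg
      obtain ⟨x, hx⟩ := isConj_iff.1 h1
      have h2 : (χ : G → ℂ) g = (χ : G → ℂ) g⁻¹ := by
        conv_lhs => rw [← hx]
        exact isClassFunction_irr χ _ _
      rw [h2]
    · have : cH g⁻¹ = 0 := by simp only [cH, hg, and_false, false_and, if_false]
      rw [this, zero_mul, zero_mul]
  have hHR : MemLocalRing M (∑ g, cH g * (χ : G → ℂ) g) := by
    apply memLocalRing_sum
    intro g _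
    apply memLocalRing_mul
    · simp only [cH]
      split_ifs
      exacts [memLocalRing_one, memLocalRing_zero]
    · exact memLocalRing_of_isIntegral (char_isIntegral (isCharacter_of_irr χ.2) g)
  have hinv : MemLocalRing M (((χ : G → ℂ) 1)⁻¹) := by
    rw [← charDegree_cast (isCharacter_of_irr χ.2)]
    exact memLocalRing_inv_natCast hM hodd
  have hmain : Om (regInd 2 G) χ - 1
      = 2 * Om cY χ - (Om cY χ - Om cY ψ)
        + 2 * ((∑ g, cH g * (χ : G → ℂ) g) * ((χ : G → ℂ) 1)⁻¹) := by
    have h1 : ∑ g, regInd 2 G g * (χ : G → ℂ) g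
        = (χ : G → ℂ) 1 + ∑ g, cY g * (χ : G → ℂ) g + ∑ g, cY g * (ψ : G → ℂ) g
          + 2 * ∑ g, cH g * (χ : G → ℂ) g := by
      rw [← hsumY', two_mul]
      nth_rewrite 2 [← hsumH']
      have : (χ : G → ℂ) 1 = ∑ g : G, (if g = 1 then 1 else 0) * (χ : G → ℂ) g := by
        simp
      rw [this, ← Finset.sum_add_distrib, ← Finset.sum_add_distrib, ← Finset.sum_add_distrib,
        ← Finset.sum_add_distrib]
      apply Finset.sum_congr rfl
      intro g _
      rw [hpt g]
      ring
    simp only [Om]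
    rw [h1, hψ1]
    field_simp
    ring
  have hI : MemLocalIdeal M (Om (regInd 2 G) χ - 1) := by
    rw [hmain]
    apply memLocalIdeal_add
    · exact memLocalIdeal_sub (memLocalIdeal_mul_right h2I hOmR) hcong
    · exact memLocalIdeal_mul_right h2I (memLocalRing_mul hHR hinv)
  exact not_memLocalIdeal_of_sub hI not_memLocalIdeal_one

end Cfsg.Agent.Lib.Helper24
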