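import Mathlib
import Cfsg.Agent.Lib.Helper24.Zass4
import Cfsg.Agent.Lib.Helper24.Coherence5
import Cfsg.Agent.S4117
import Cfsg.Agent.S0040
import Cfsg.Agent.S3375

set_option autoImplicit false
open Cfsg

namespace Cfsg.Agent.Lib.Helper24.Zass5

open Cfsg.Agent.Lib.Helper29.Zass Cfsg.Agent.Lib.Helper24.Zass3 Cfsg.Agent.Lib.Helper24.Zass4

/-- an involutory automorphism of a Z-group of odd order leaving no non-trivial linear character
invariant has no non-trivial fixed point -/
theorem fpf_of_zgroup {X : Type*} [Group X] [Finite X] [IsZGroup X] (hodd : Odd (Nat.card X))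
    (τ : MulAut X) (hτ : τ * τ = 1)
    (hno : ∀ φ : X →* ℂˣ, (∀ y, φ (τ y) = φ y) → ∀ y, φ y = 1) (y₀ : X) (hy₀ : τ y₀ = y₀) :
    y₀ = 1 := by
  by_contra hne
  have hcard : Nat.card (Subgroup.zpowers τ) ∣ 2 := by
    rw [Nat.card_zpowers]
    apply orderOf_dvd_of_pow_eq_one
    rw [pow_two, hτ]
  have hcop : (Nat.card (Subgroup.zpowers τ)).Coprime (Nat.card X) :=
    Nat.Coprime.coprime_dvd_left hcard (Nat.coprime_two_left.mpr hodd)
  obtain ⟨-, -, hKn, hKF, -⟩ := Cfsg.Agent.S4117.result (G := X) (A := Subgroup.zpowers τ) hcop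
    (fun p _ P => inferInstance)
  have hfix : y₀ ∈ MulAction.fixedPoints (Subgroup.zpowers τ) X := by
    intro a
    have h1 : Subgroup.zpowers τ ≤ MulAction.stabilizer (MulAut X) y₀ :=
      (Subgroup.zpowers_le).mpr hy₀
    exact h1 a.2
  have hK : Subgroup.closure {y : X | ∃ (a : Subgroup.zpowers τ) (g : X), y = g⁻¹ * a • g} ≠ ⊤ := by
    intro h
    have h1 : y₀ ∈ (Subgroup.closure {y : X | ∃ (a : Subgroup.zpowers τ) (g : X), y = g⁻¹ * a • g} :
        Set X) ∩ MulAction.fixedPoints (Subgroup.zpowers τ) X := ⟨by rw [h]; trivial, hfix⟩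
    rw [hKF] at h1
    exact hne h1
  obtain ⟨θ, h1, h2, h3, h4⟩ := Cfsg.Agent.Lib.Helper24.Coh5.exists_linear
    (inferInstance : Group.IsSolvable X) _ hK
  obtain ⟨φ, hφ⟩ := Cfsg.Agent.Lib.Helper7.exists_hom_of_linear
    (Cfsg.Agent.Lib.Helper7.isCharacter_of_irr h1) h4
  apply h2
  funext y
  rw [hφ, hno φ ?_ y, Units.val_one]
  intro y
  have h5 : y⁻¹ * τ y ∈
      Subgroup.closure {y : X | ∃ (a : Subgroup.zpowers τ) (g : X), y = g⁻¹ * a • g} :=
    Subgroup.subset_closure ⟨⟨τ, Subgroup.mem_zpowers τ⟩, y, rfl⟩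
  have h6 : φ (y⁻¹ * τ y) = 1 := by
    apply Units.ext
    rw [← hφ, h3 _ h5, h4, Units.val_one]
  have h7 : τ y = y * (y⁻¹ * τ y) := by group
  rw [h7, map_mul, h6, mul_one]

variable {G Ω : Type*} [Group G] [MulAction G Ω]

theorem zgroup_two [Finite G] [Fintype Ω] (hZ : Cfsg.IsZassenhausGroup G Ω) {c d : Ω}
    (hcd : c ≠ d)
    (hodd : Odd (Nat.card ↥(MulAction.stabilizer G c ⊓ MulAction.stabilizer G d : Subgroup G))) :
    IsZGroup ↥(MulAction.stabilizer G c ⊓ MulAction.stabilizer G d : Subgroup G) := by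
  obtain ⟨K, hK⟩ := exists_isKer hZ c
  have hKn : (K.subgroupOf (MulAction.stabilizer G c)).Normal := ⟨fun k hk g => by
    rw [Subgroup.mem_subgroupOf] at hk ⊢
    exact hK.norm g g.2 k hk⟩
  have hdisj : Disjoint (K.subgroupOf (MulAction.stabilizer G c))
      ((MulAction.stabilizer G c ⊓ MulAction.stabilizer G d : Subgroup G).subgroupOf
        (MulAction.stabilizer G c)) := by
    rw [Subgroup.disjoint_def]
    intro u hu1 hu2
    apply Subtype.ext
    exact hK.eq_one hu1 hcd.symm hu2.2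
  have hcompl : Subgroup.IsComplement' (K.subgroupOf (MulAction.stabilizer G c))
      ((MulAction.stabilizer G c ⊓ MulAction.stabilizer G d : Subgroup G).subgroupOf
        (MulAction.stabilizer G c)) := by
    apply Subgroup.isComplement'_of_disjoint_and_mul_eq_univ hdisj
    rw [Set.eq_univ_iff_forall]
    intro k
    have hkd : (k : G) • d ≠ c := by
      intro h
      apply hcd
      have h2 : (k : G) • d = (k : G) • c := by rw [h]; exact (k.2 : (k : G) • c = c).symm
      exact (smul_left_cancel _ h2).symm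
    obtain ⟨u, hu, hud⟩ := hK.trans hcd.symm hkd
    have huN : u ∈ MulAction.stabilizer G c := hK.le hu
    refine Set.mem_mul.mpr ⟨⟨u, huN⟩, hu, (⟨u, huN⟩ : MulAction.stabilizer G c)⁻¹ * k, ?_, by group⟩
    show (((⟨u, huN⟩ : MulAction.stabilizer G c)⁻¹ * k : MulAction.stabilizer G c) : G) ∈
      (MulAction.stabilizer G c ⊓ MulAction.stabilizer G d : Subgroup G)
    refine Subgroup.mem_inf.mpr ⟨((⟨u, huN⟩ : MulAction.stabilizer G c)⁻¹ * k).2, ?_⟩
    show (u⁻¹ * (k : G)) • d = d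
    rw [mul_smul, inv_smul_eq_iff, hud]
  have hK1 : K.subgroupOf (MulAction.stabilizer G c) ≠ ⊥ := by
    intro h
    obtain ⟨x, hxc, hxd⟩ := exists_third hZ hcd
    obtain ⟨u, hu, hud⟩ := hK.trans hcd.symm hxc
    have h3 : (⟨u, hK.le hu⟩ : MulAction.stabilizer G c) ∈ K.subgroupOf (MulAction.stabilizer G c) :=
      hu
    rw [h, Subgroup.mem_bot] at h3
    have h4 : u = 1 := congrArg Subtype.val h3
    rw [h4, one_smul] at hud
    exact hxd hud.symm
  have hfpf : ∀ h ∈ (MulAction.stabilizer G c ⊓ MulAction.stabilizer G d : Subgroup G).subgroupOf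
      (MulAction.stabilizer G c), h ≠ 1 →
      K.subgroupOf (MulAction.stabilizer G c) ⊓ Subgroup.centralizer {h} = ⊥ := by
    intro h hh h1
    rw [Subgroup.eq_bot_iff_forall]
    intro u hu
    obtain ⟨hu1, hu2⟩ := Subgroup.mem_inf.mp hu
    rw [Subgroup.mem_centralizer_singleton_iff] at hu2
    have hcomm : (u : G) * h = h * u := congrArg Subtype.val hu2
    have hh1 : (h : G) ≠ 1 := fun e => h1 (Subtype.ext e)
    have hhd : (h : G) • d = d := hh.2
    have hhc : (h : G) • c = c := hh.1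
    have h3 : (h : G) • ((u : G) • d) = (u : G) • d := by
      rw [← mul_smul, ← hcomm, mul_smul, hhd]
    apply Subtype.ext
    rcases fix_two hZ hh1 hcd hhc hhd h3 with h4 | h4
    · exfalso
      apply hcd
      have h5 : (u : G) • d = (u : G) • c := by rw [h4]; exact (u.2 : (u : G) • c = c).symm
      exact (smul_left_cancel _ h5).symm
    · exact hK.eq_one hu1 hcd.symm h4
  have hcardE : Nat.card ↥((MulAction.stabilizer G c ⊓ MulAction.stabilizer G d : Subgroup G).subgroupOf
      (MulAction.stabilizer G c)) =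
      Nat.card ↥(MulAction.stabilizer G c ⊓ MulAction.stabilizer G d : Subgroup G) :=
    Nat.card_congr (Subgroup.subgroupOfEquivOfLe inf_le_left).toEquiv
  have hz : IsZGroup ↥((MulAction.stabilizer G c ⊓ MulAction.stabilizer G d : Subgroup G).subgroupOf
      (MulAction.stabilizer G c)) := by
    refine ⟨fun p hp P => ?_⟩
    have : Fact p.Prime := ⟨hp⟩
    rcases Cfsg.Agent.S0040.result _ _ hcompl hK1 hfpf p P with h | ⟨n, ⟨e⟩⟩
    · exact h
    · exfalso
      have h1 : Nat.card P = 4 * 2 ^ n := by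
        rw [Nat.card_congr e.toEquiv, Nat.card_eq_fintype_card, QuaternionGroup.card]
      have h2 : Nat.card P ∣ Nat.card ↥((MulAction.stabilizer G c ⊓ MulAction.stabilizer G d :
          Subgroup G).subgroupOf (MulAction.stabilizer G c)) := Subgroup.card_subgroup_dvd_card _
      rw [hcardE, h1] at h2
      have h3 : 2 ∣ Nat.card ↥(MulAction.stabilizer G c ⊓ MulAction.stabilizer G d : Subgroup G) :=
        Dvd.dvd.trans ⟨2 * 2 ^ n, by ring⟩ h2
      exact (Nat.not_even_iff_odd.mpr hodd) (even_iff_two_dvd.mpr h3)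
  exact IsZGroup.of_injective
    (f := (Subgroup.subgroupOfEquivOfLe (inf_le_left :
      (MulAction.stabilizer G c ⊓ MulAction.stabilizer G d : Subgroup G) ≤
        MulAction.stabilizer G c)).symm.toMonoidHom)
    (MulEquiv.injective _)

/-- an involution swapping two points inverts their stabiliser -/
theorem inverts [Finite G] [Fintype Ω] [IsSimpleGroup G] (hZ : Cfsg.IsZassenhausGroup G Ω)
    {c d : Ω} (hcd : c ≠ d)
    (hodd : Odd (Nat.card ↥(MulAction.stabilizer G c ⊓ MulAction.stabilizer G d : Subgroup G)))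
    (t : G) (htt : t * t = 1) (h1 : t • c = d) (h2 : t • d = c) (y : G)
    (hy : y ∈ (MulAction.stabilizer G c ⊓ MulAction.stabilizer G d : Subgroup G)) :
    t * y * t⁻¹ = y⁻¹ := by
  have hz := zgroup_two hZ hcd hodd
  have hti : t⁻¹ = t := inv_eq_of_mul_eq_one_left htt
  have hinvol : ∀ z : G, t * (t * z * t⁻¹) * t⁻¹ = z := by
    intro z
    calc t * (t * z * t⁻¹) * t⁻¹ = (t * t) * z * (t * t)⁻¹ := by group
      _ = z := by rw [htt]; group
  let τ : MulAut ↥(MulAction.stabilizer G c ⊓ MulAction.stabilizer G d : Subgroup G) :=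
    { toFun := fun z => ⟨t * z * t⁻¹, conj_mem_two (Or.inr ⟨h1, h2⟩) z.2⟩
      invFun := fun z => ⟨t * z * t⁻¹, conj_mem_two (Or.inr ⟨h1, h2⟩) z.2⟩
      left_inv := fun z => Subtype.ext (hinvol z)
      right_inv := fun z => Subtype.ext (hinvol z)
      map_mul' := fun x z => Subtype.ext (by
        show t * ((x : G) * z) * t⁻¹ = (t * x * t⁻¹) * (t * z * t⁻¹)
        group) }
  have hτv : ∀ z, ((τ z : ↥(MulAction.stabilizer G c ⊓ MulAction.stabilizer G d : Subgroup G)) : G)
      = t * z * t⁻¹ := fun z => rfl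
  have hττ : τ * τ = 1 := by
    ext z
    exact hinvol z
  have hno : ∀ φ : ↥(MulAction.stabilizer G c ⊓ MulAction.stabilizer G d : Subgroup G) →* ℂˣ,
      (∀ z, φ (τ z) = φ z) → ∀ z, φ z = 1 := by
    intro φ hφ
    apply no_invariant_hom hZ hcd hodd φ
    intro g hg1 hg2 z hz'
    have hm : t * g ∈ (MulAction.stabilizer G c ⊓ MulAction.stabilizer G d : Subgroup G) :=
      Subgroup.mem_inf.mpr ⟨by show (t * g) • c = c; rw [mul_smul, hg1, h2],
        by show (t * g) • d = d; rw [mul_smul, hg2, h1]⟩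
    have e1 : (⟨g⁻¹ * (z : G) * g, hz'⟩ :
        ↥(MulAction.stabilizer G c ⊓ MulAction.stabilizer G d : Subgroup G)) =
        (⟨t * g, hm⟩ : ↥(MulAction.stabilizer G c ⊓ MulAction.stabilizer G d : Subgroup G))⁻¹ * τ z *
          ⟨t * g, hm⟩ := Subtype.ext (by
      show g⁻¹ * (z : G) * g = (t * g)⁻¹ * (t * z * t⁻¹) * (t * g)
      group)
    rw [e1, map_mul, map_mul, map_inv, mul_comm, mul_inv_cancel_left, hφ]
  have hfix := fpf_of_zgroup hodd τ hττ hno
  by_cases hτ1 : τ = 1
  · have h3 : (⟨y, hy⟩ : ↥(MulAction.stabilizer G c ⊓ MulAction.stabilizer G d : Subgroup G)) = 1 :=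
      hfix _ (by rw [hτ1]; rfl)
    have hy1 : y = 1 := congrArg Subtype.val h3
    rw [hy1]
    group
  · have hord : orderOf τ = 2 := orderOf_eq_prime (by rw [pow_two, hττ]) hτ1
    have h3 := ((Cfsg.Agent.S3375.result τ hord).1 hfix).2 ⟨y, hy⟩
    exact congrArg Subtype.val h3

end Cfsg.Agent.Lib.Helper24.Zass5
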